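import Mathlib
import Groth.Prelude.Def_ega3
import Groth.Prelude.Def_KLin

/-!
# `A`-linearity of `M ↦ f^*(M~) ⊗ F` (piece (LIN) of the base-change chain)
-/

set_option autoImplicit false
set_option linter.style.haveILetI false
set_option linter.unusedSectionVars false
set_option linter.unusedVariables false
universe u v w
open CategoryTheory CategoryTheory.Limits AlgebraicGeometry TopologicalSpace Opposite

namespace Groth.Agent.H96.BC

section General

variable {R : Type*} [Semiring R] {C : Type*} {D : Type*} [Category C] [Category D]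
  [Preadditive C] [Preadditive D] [Linear R C] [Linear R D]

/-- A left adjoint of a linear functor is linear. -/
theorem linear_of_adjunction {F : C ⥤ D} {G : D ⥤ C} (adj : F ⊣ G) [G.Linear R] : F.Linear R := by
  refine (Functor.linear_iff R F).mpr fun X r => ?_
  apply (adj.homEquiv X (F.obj X)).injective
  rw [Adjunction.homEquiv_unit, Adjunction.homEquiv_unit]
  have h := adj.unit.naturality (r • 𝟙 X)
  simp only [Functor.id_obj, Functor.id_map, Functor.comp_obj, Functor.comp_map] at h
  rw [← h, Functor.map_smul, CategoryTheory.Functor.map_id, Linear.comp_smul, Linear.smul_comp]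
  simp

end General

section Pullback

variable (A : Type u) [CommRing A] {X : Scheme.{u}} [X.Over (Spec (CommRingCat.of A))]

/-- the structure morphism `Spec A ⟶ Spec A` is the identity -/
lemma over_spec_self :
    ((Spec (CommRingCat.of A)) ↘ (Spec (CommRingCat.of A))) = 𝟙 _ := by
  rw [specOverSpec_over]
  have : CommRingCat.ofHom (algebraMap A A) = 𝟙 (CommRingCat.of A) := rfl
  rw [this, Spec.map_id]

/-- the structure morphism is a morphism over `Spec A` -/
instance isOver_structure :
    (X ↘ Spec (CommRingCat.of A)).IsOver (Spec (CommRingCat.of A)) :=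
  ⟨by rw [over_spec_self, Category.comp_id]⟩

/-- **inverse image along the structure morphism is `A`-linear** -/
instance linear_pullback :
    (Scheme.Modules.pullback (X ↘ Spec (CommRingCat.of A))).Linear A :=
  linear_of_adjunction
    (Scheme.Modules.pullbackPushforwardAdjunction (X ↘ Spec (CommRingCat.of A)))

end Pullback

section Tilde

variable (A : Type u) [CommRing A]

lemma toGlobal_spec_self (a : A) :
    Coh.toGlobal ((Spec (CommRingCat.of A)) ↘ (Spec (CommRingCat.of A))) a =
      (Scheme.ΓSpecIso (CommRingCat.of A)).inv.hom a := by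
  rw [over_spec_self]
  rfl

/-- global sections on `Spec A` are `A`-linear -/
instance linear_moduleSpecΓFunctor :
    (moduleSpecΓFunctor (R := CommRingCat.of A)).Linear A := by
  refine (Functor.linear_iff A _).mpr fun M a => ?_
  ext x
  have h := KLin.smul_app_apply (A := A) (X := Spec (CommRingCat.of A)) a (𝟙 M) ⊤
    (show Γ(M, ⊤) from x)
  rw [toGlobal_spec_self] at h
  exact h.trans (by
    rw [Scheme.Modules.Hom.id_app]
    have e : (homOfLE (le_top : (⊤ : (Spec (CommRingCat.of A)).Opens) ≤ ⊤)) = 𝟙 _ := rfl
    rw [e, op_id, CategoryTheory.Functor.map_id]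
    rfl)

/-- **`M ↦ M~` is `A`-linear** -/
instance linear_tilde : (tilde.functor (CommRingCat.of A)).Linear A :=
  linear_of_adjunction (tilde.adjunction (R := CommRingCat.of A))

end Tilde

section Tensor

open MonoidalCategory

variable {X : Scheme.{u}}

/-- the restriction of a global function, typed in the ring of the presheaf of modules -/
noncomputable def resP (U : (Opens X)ᵒᵖ) (r : Coh.Γtop X) :
    ((X.sheaf.obj ⋙ forget₂ CommRingCat RingCat.{u}).obj U) := Coh.resTop X U r

lemma map_resP {U V : (Opens X)ᵒᵖ} (f : U ⟶ V) (r : Coh.Γtop X) :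
    ((X.sheaf.obj ⋙ forget₂ CommRingCat RingCat.{u}).map f).hom (resP U r) = resP V r :=
  Coh.resTop_comp U V f r

lemma resP_mul_comm (U : (Opens X)ᵒᵖ) (r : Coh.Γtop X)
    (s : ((X.sheaf.obj ⋙ forget₂ CommRingCat RingCat.{u}).obj U)) :
    resP U r * s = s * resP U r :=
  @mul_comm Γ(X, Opposite.unop U) _ (Coh.resTop X U r) s

/-- Multiplication by a global function on a presheaf of modules. -/
noncomputable def smulP (P : CohB1.PMod X) (r : Coh.Γtop X) : P ⟶ P where
  app U := ModuleCat.ofHom
    { toFun := fun m => resP U r • m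
      map_add' := fun m m' => smul_add _ m m'
      map_smul' := fun s m => by
        change resP U r • (s • m) = s • (resP U r • m)
        rw [← mul_smul, ← mul_smul, resP_mul_comm] }
  naturality {U V} f := by
    ext m
    change resP V r • (P.map f).hom m = (P.map f).hom (resP U r • m)
    rw [PresheafOfModules.map_smul, map_resP]

lemma smulP_app_apply (P : CohB1.PMod X) (r : Coh.Γtop X) (U : (Opens X)ᵒᵖ) (m : P.obj U) :
    ((smulP P r).app U).hom m = resP U r • m := rfl

lemma smulP_comm {P Q : CohB1.PMod X} (ψ : P ⟶ Q) (r : Coh.Γtop X) :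
    smulP P r ≫ ψ = ψ ≫ smulP Q r := by
  ext U m
  change (ψ.app U).hom (resP U r • m) = resP U r • (ψ.app U).hom m
  rw [map_smul]

lemma toP_map_smulModΓ (M : X.Modules) (r : Coh.Γtop X) :
    DCoh.toP.map (Formal.smulModΓ M r) = smulP (DCoh.toP.obj M) r := by
  ext U m
  rfl

lemma smulP_whiskerRight (P Q : CohB1.PMod X) (r : Coh.Γtop X) :
    smulP P r ▷ Q = smulP (P ⊗ Q) r := by
  ext U : 1
  rw [PresheafOfModules.whiskerRight_app]
  apply ModuleCat.MonoidalCategory.tensor_ext
  intro m n
  change ((smulP P r).app U).hom m ⊗ₜ[((X.sheaf.obj ⋙ forget₂ CommRingCat RingCat.{u}).obj U)] n =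
    resP U r • (m ⊗ₜ[((X.sheaf.obj ⋙ forget₂ CommRingCat RingCat.{u}).obj U)] n)
  rw [smulP_app_apply, TensorProduct.smul_tmul']

/-- the right adjoint of sheafification, typed on `CohB1.PMod X` -/
noncomputable abbrev forgetP : X.Modules ⥤ CohB1.PMod X :=
  SheafOfModules.forget X.ringCatSheaf ⋙ PresheafOfModules.restrictScalars (𝟙 X.ringCatSheaf.obj)

/-- sheafification is left adjoint to `forgetP` -/
noncomputable def shPAdj : DCoh.shP (X := X) ⊣ forgetP (X := X) :=
  PresheafOfModules.sheafificationAdjunction (𝟙 X.ringCatSheaf.obj)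

lemma forgetP_map_smulModΓ (M : X.Modules) (r : Coh.Γtop X) :
    (forgetP (X := X)).map (Formal.smulModΓ M r) = smulP ((forgetP (X := X)).obj M) r := by
  ext U m
  rfl

/-- sheafification turns multiplication by a global function into multiplication by it -/
lemma shP_map_smulP (P : CohB1.PMod X) (r : Coh.Γtop X) :
    (DCoh.shP (X := X)).map (smulP P r) = Formal.smulModΓ ((DCoh.shP (X := X)).obj P) r := by
  apply ((shPAdj (X := X)).homEquiv P _).injective
  rw [Adjunction.homEquiv_unit, Adjunction.homEquiv_unit, forgetP_map_smulModΓ]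
  refine ((shPAdj (X := X)).unit.naturality (smulP P r)).symm.trans ?_
  exact smulP_comm ((shPAdj (X := X)).unit.app P) r

/-- `- ⊗ F` commutes with multiplication by global functions -/
lemma tensorRightMod_map_smulModΓ (F N : X.Modules) (r : Coh.Γtop X) :
    (DCoh.tensorRightMod F).map (Formal.smulModΓ N r) =
      Formal.smulModΓ ((DCoh.tensorRightMod F).obj N) r := by
  change (DCoh.shP (X := X)).map (DCoh.toP.map (Formal.smulModΓ N r) ▷ CohB1.toPMod F) = _
  rw [toP_map_smulModΓ, smulP_whiskerRight, shP_map_smulP]
  rfl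

end Tensor

section Main

variable (A : Type u) [CommRing A] {X : Scheme.{u}} [X.Over (Spec (CommRingCat.of A))]

/-- **`- ⊗ F` is `A`-linear** -/
instance linear_tensorRightMod (F : X.Modules) : (DCoh.tensorRightMod F).Linear A := by
  refine (Functor.linear_iff A _).mpr fun N a => ?_
  rw [KLin.smul_id, KLin.smul_id]
  exact tensorRightMod_map_smulModΓ F N _

/-- **(LIN)**: `M ↦ f^*(M~) ⊗ F` is an `A`-linear functor. -/
instance linear_tensorAFunctor (F : X.Modules) : (CohIII.tensorAFunctor A F).Linear A := by
  unfold CohIII.tensorAFunctor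
  infer_instance

/-- (LIN), in the form requested: the image of multiplication by `a` is multiplication by `a`. -/
theorem tensorAFunctor_map_smul (F : X.Modules) (M : ModuleCat.{u} A) (a : A) :
    (CohIII.tensorAFunctor A F).map (a • 𝟙 M) =
      Formal.smulMod A ((CohIII.tensorAFunctor A F).obj M) a := by
  rw [Functor.map_smul, CategoryTheory.Functor.map_id, KLin.smul_id]

/-- On cohomology, multiplication by `a` on the module induces the `A`-module structure. -/
theorem HAb_map_smulMod (N : X.Modules) (a : A) (p : ℕ) (x : Coh.HH X N p) :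
    ((CohIII.HAb X p).map (Formal.smulMod A N a)).hom x = a • x := rfl

/-- The `A`-module structure on `H^p(X, f^*(M~) ⊗ F)` is induced by functoriality in `M`. -/
theorem HAb_map_tensorAFunctor_smul (F : X.Modules) (M : ModuleCat.{u} A) (a : A) (p : ℕ)
    (x : Coh.HH X ((CohIII.tensorAFunctor A F).obj M) p) :
    ((CohIII.HAb X p).map ((CohIII.tensorAFunctor A F).map (a • 𝟙 M))).hom x = a • x := by
  rw [tensorAFunctor_map_smul]
  rfl

end Main

end Groth.Agent.H96.BC
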