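import Mathlib
import Groth.Prelude.Def_ega3
import Groth.Agent.H43.LerayLin5
import Groth.Agent.H88.LerayLinearOver

/-!
# The Leray comparison as a natural isomorphism of functors (base-change chain, pieces B2b/B3)

* `nonempty_lerayNatIso`: for a cover `U` of a space and a functor `Ψ : 𝒟 ⥤ Sheaf Ab` all of whose
  values are acyclic on the finite intersections,
  `Ψ ⋙ (presheaf) ⋙ Čech complex ⋙ H^p ≅ Ψ ⋙ Sheaf.functorH p`.
-/

set_option autoImplicit false
set_option linter.style.haveILetI false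
set_option linter.unusedSectionVars false
set_option linter.unusedVariables false
universe u v w
open CategoryTheory CategoryTheory.Limits AlgebraicGeometry TopologicalSpace Opposite
open CechEdge
open Groth.Agent.H43.LerayLin (famTop lerayTop lerayTop_natural lerayTop_bijective)

namespace Groth.Agent.H96.BC

section Top

variable {X : TopCat.{u}} {ι : Type u} (U : ι → Opens X)

/-- Bridge between the two acyclicity predicates on main. -/
lemma acyc43_of_acyc (F : Sheaf (Opens.grothendieckTopology X) AddCommGrpCat.{u})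
    (h : Groth.Agent.Lead.Cech.Acyc U F) : Groth.Agent.H43.LerayLin.Acyc U F := by
  intro p a q
  have e : Groth.Agent.Lead.Cech.cechOpen U a = ⨅ k, U (a k) :=
    Groth.Agent.Lead.Cech.cechOpen_eq_iInf U a
  rw [← e]
  exact h p a q

/-- The Leray comparison, as an isomorphism in `Ab`. -/
noncomputable def lerayIso (hU : iSup U = ⊤)
    (F : Sheaf (Opens.grothendieckTopology X) AddCommGrpCat.{u})
    (hF : Groth.Agent.H43.LerayLin.Acyc U F) (p : ℕ) :
    CohCx.cechH F.obj (famTop U) p ≅ (Sheaf.functorH (Opens.grothendieckTopology X) p).obj F :=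
  (AddEquiv.ofBijective (lerayTop U hU F p) (lerayTop_bijective U hU F hF p)).toAddCommGrpIso

/-- **Natural Leray**: the Čech cohomology functors of an acyclic cover compute the sheaf
cohomology functors, naturally. -/
theorem nonempty_lerayNatIso (hU : iSup U = ⊤) {𝒟 : Type v} [Category.{w} 𝒟]
    (Ψ : 𝒟 ⥤ Sheaf (Opens.grothendieckTopology X) AddCommGrpCat.{u})
    (hΨ : ∀ d, Groth.Agent.H43.LerayLin.Acyc U (Ψ.obj d)) (p : ℕ) :
    Nonempty (Ψ ⋙ sheafToPresheaf _ _ ⋙ cxFunctor (famTop U) ⋙
        HomologicalComplex.homologyFunctor _ _ p ≅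
      Ψ ⋙ Sheaf.functorH (Opens.grothendieckTopology X) p) := by
  refine ⟨NatIso.ofComponents (fun d => lerayIso U hU (Ψ.obj d) (hΨ d) p) ?_⟩
  intro d d' g
  ext x
  exact lerayTop_natural U hU (Ψ.map g) p x

end Top

section Scheme

variable {X : Scheme.{u}} {ι : Type u} (U : ι → X.Opens)

/-- **(B2b/B3), functorial form**: for a cover `U` of the scheme `X` with affine finite
intersections and a functor `Φ` to quasi-coherent `O_X`-modules, `Φ ⋙ H^p(X, -)` is naturally
isomorphic to the `p`-th Čech cohomology of `Φ`. -/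
theorem nonempty_HAb_natIso (hU : iSup U = ⊤)
    (hA : ∀ (p : ℕ) (σ : Fin (p + 1) → ι),
      IsAffineOpen (Groth.Agent.Lead.Cech.cechOpen (X := X) U σ))
    {𝒟 : Type v} [Category.{w} 𝒟] (Φ : 𝒟 ⥤ X.Modules)
    (hΦ : ∀ d, (Φ.obj d).IsQuasicoherent) (p : ℕ) :
    Nonempty (Φ ⋙ CohIII.HAb X p ≅
      Φ ⋙ SheafOfModules.toSheaf X.ringCatSheaf ⋙ sheafToPresheaf _ _ ⋙
        cxFunctor (famTop (X := X.toTopCat) U) ⋙ HomologicalComplex.homologyFunctor _ _ p) := by
  obtain ⟨e⟩ := nonempty_lerayNatIso (X := X.toTopCat) U hU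
    (Φ ⋙ SheafOfModules.toSheaf X.ringCatSheaf)
    (fun d => acyc43_of_acyc (X := X.toTopCat) U _
      (haveI := hΦ d
       Groth.Agent.H88.LerayLinear.acyc_of_isAffineOpen_cechOpen (Φ.obj d) U hA)) p
  exact ⟨e.symm⟩

end Scheme

end Groth.Agent.H96.BC
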