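import Mathlib
import Groth.Prelude.Def_ega3
import Groth.Agent.H96.BaseChange.CechLin
import Groth.Agent.H85.BC.SecTensor

/-!
# Naturality of the `A`-linear Čech complex, and `Č(U, F) ⊗_A M ≅ Č(U, F ⊗_A M)` (helper96)

* `cechAMap A U φ : cechA A U G ⟶ cechA A U G'` for `φ : G ⟶ G'`;
* `thetaA` : helper85's `theta` transported to `SecA`;
* `cechThetaIso A U F M : CohIII.tensorObj (cechA A U F) M ≅ cechA A U ((tensorAFunctor A F).obj M)`
  for a finite family with affine finite intersections and `F` quasi-coherent, natural in `M`.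
-/

set_option autoImplicit false
set_option linter.style.haveILetI false
set_option linter.unusedSectionVars false
set_option linter.unusedVariables false

universe u

open CategoryTheory CategoryTheory.Limits AlgebraicGeometry TopologicalSpace Opposite TensorProduct
open Groth.Agent.Lead.Cech
open Groth.Agent.H85.BC (Sec secRing secRes secHom theta GM GMmap)

namespace Groth.Agent.H96.BC

variable (A : Type u) [CommRing A] {X : Scheme.{u}} [X.Over (Spec (CommRingCat.of A))]

section SecEq

variable (G : X.Modules)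

lemma toSecRing_eq_secRing (V : X.Opens) : toSecRing A V = secRing A V :=
  toSecRing_eq_appLE A V

/-- the identity, between the two spellings of the `A`-module of sections -/
noncomputable def secEq (V : X.Opens) : SecA A G V ≃ₗ[A] Sec A G V where
  toFun s := s
  invFun s := s
  left_inv _ := rfl
  right_inv _ := rfl
  map_add' _ _ := rfl
  map_smul' a s := by
    change toSecRing A V a • SecA.val A s = secRing A V a • SecA.val A s
    rw [toSecRing_eq_secRing]

lemma secEq_resA {V W : X.Opens} (h : W ≤ V) (s : SecA A G V) :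
    secEq A G W (resA A G h s) = secRes A G (homOfLE h) (secEq A G V s) := rfl

variable {G} in
/-- a morphism of modules on sections, `A`-linearly -/
noncomputable def secAMap {G' : X.Modules} (φ : G ⟶ G') (V : X.Opens) :
    SecA A G V →ₗ[A] SecA A G' V :=
  (secEq A G' V).symm.toLinearMap ∘ₗ secHom A φ V ∘ₗ (secEq A G V).toLinearMap

variable {G} in
lemma secAMap_apply {G' : X.Modules} (φ : G ⟶ G') (V : X.Opens) (s : SecA A G V) :
    SecA.val A (secAMap A φ V s) = φ.app V (SecA.val A s) := rfl

variable {G} in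
lemma resA_secAMap {G' : X.Modules} (φ : G ⟶ G') {V W : X.Opens} (h : W ≤ V) (s : SecA A G V) :
    resA A G' h (secAMap A φ V s) = secAMap A φ W (resA A G h s) := by
  change (G'.presheaf.map (homOfLE h).op).hom (φ.app V (SecA.val A s)) =
    φ.app W ((G.presheaf.map (homOfLE h).op).hom (SecA.val A s))
  exact (congr($((Scheme.Modules.Hom.mapPresheaf φ).naturality (homOfLE h).op)
    (SecA.val A s))).symm

end SecEq

section CechMap

variable {ι : Type u} (U : ι → X.Opens) {G G' : X.Modules} (φ : G ⟶ G')

/-- the map on Čech cochains induced by `φ` -/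
noncomputable def cechXMap (p : ℕ) : CechX A U G p →ₗ[A] CechX A U G' p :=
  LinearMap.pi (fun σ => secAMap A φ (cechOpen (X := X) U σ) ∘ₗ
    LinearMap.proj (R := A) (φ := fun τ : Fin (p + 1) → ι => SecA A G (cechOpen (X := X) U τ)) σ)

lemma cechXMap_apply (p : ℕ) (c : CechX A U G p) (σ : Fin (p + 1) → ι) :
    cechXMap A U φ p c σ = secAMap A φ (cechOpen (X := X) U σ) (c σ) := rfl

lemma cechXMap_dA (p : ℕ) (c : CechX A U G p) :
    cechXMap A U φ (p + 1) (dA A U G p c) = dA A U G' p (cechXMap A U φ p c) := by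
  funext σ
  rw [cechXMap_apply, dA_apply, dA_apply, map_sum]
  refine Finset.sum_congr rfl (fun j _ => ?_)
  rw [map_zsmul, cechXMap_apply, resA_secAMap]

/-- **functoriality of the Čech complex** -/
noncomputable def cechAMap : cechA A U G ⟶ cechA A U G' where
  f p := ModuleCat.ofHom (cechXMap A U φ p)
  comm' i j hij := by
    have hj : i + 1 = j := hij
    subst hj
    ext c
    change ((cechA A U G').d i (i + 1)).hom (cechXMap A U φ i c) =
      cechXMap A U φ (i + 1) (((cechA A U G).d i (i + 1)).hom c)
    rw [cechA_d, cechA_d]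
    exact (cechXMap_dA A U φ i c).symm

lemma cechAMap_f_apply (p : ℕ) (c : CechX A U G p) (σ : Fin (p + 1) → ι) :
    ((cechAMap A U φ).f p).hom c σ = secAMap A φ (cechOpen (X := X) U σ) (c σ) := rfl

/-- the morphism of abelian sheaves underlying `φ` -/
noncomputable abbrev toAbMap : Coh.toAb G ⟶ Coh.toAb G' :=
  (SheafOfModules.toSheaf X.ringCatSheaf).map φ

lemma toK_cechXMap (p : ℕ) (c : CechX A U G p) :
    toK A U G' p (cechXMap A U φ p c) =
      ((cechComplexFunctor U).map (toAbMap φ).hom).f p (toK A U G p c) := by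
  apply ext_elem (X := X) U (Coh.toAb G').obj
  intro σ
  rw [proj_toK, map_apply, proj_toK]
  rfl

/-- naturality of the comparison with Mathlib's Čech complex -/
lemma cechAIsoK_naturality :
    ((forget₂ (ModuleCat.{u} A) AddCommGrpCat.{u}).mapHomologicalComplex _).map (cechAMap A U φ) ≫
        (cechAIsoK A U G').hom =
      (cechAIsoK A U G).hom ≫ (cechComplexFunctor U).map (toAbMap φ).hom := by
  ext p c
  exact toK_cechXMap A U φ p c

lemma cechAHomologyIso_naturality (p : ℕ) :
    (forget₂ (ModuleCat.{u} A) AddCommGrpCat.{u}).map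
        (HomologicalComplex.homologyMap (cechAMap A U φ) p) ≫ (cechAHomologyIso A U G' p).hom =
      (cechAHomologyIso A U G p).hom ≫ HomologicalComplex.homologyMap ((cechComplexFunctor U).map
        (toAbMap φ).hom) p := by
  have e : (cechAHomologyIso A U G p).hom =
      (((cechA A U G).sc p).mapHomologyIso (forget₂ (ModuleCat.{u} A) AddCommGrpCat.{u})).inv ≫
        HomologicalComplex.homologyMap (cechAIsoK A U G).hom p := rfl
  have e' : (cechAHomologyIso A U G' p).hom =
      (((cechA A U G').sc p).mapHomologyIso (forget₂ (ModuleCat.{u} A) AddCommGrpCat.{u})).inv ≫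
        HomologicalComplex.homologyMap (cechAIsoK A U G').hom p := rfl
  rw [e, e']
  have h := ShortComplex.mapHomologyIso_inv_naturality
    ((HomologicalComplex.shortComplexFunctor (ModuleCat.{u} A) (ComplexShape.up ℕ) p).map
      (cechAMap A U φ)) (forget₂ (ModuleCat.{u} A) AddCommGrpCat.{u})
  have h' : (forget₂ (ModuleCat.{u} A) AddCommGrpCat.{u}).map
        (HomologicalComplex.homologyMap (cechAMap A U φ) p) ≫
      (((cechA A U G').sc p).mapHomologyIso (forget₂ (ModuleCat.{u} A) AddCommGrpCat.{u})).inv =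
      (((cechA A U G).sc p).mapHomologyIso (forget₂ (ModuleCat.{u} A) AddCommGrpCat.{u})).inv ≫
        HomologicalComplex.homologyMap
          (((forget₂ (ModuleCat.{u} A) AddCommGrpCat.{u}).mapHomologicalComplex _).map
            (cechAMap A U φ)) p := h
  refine (Category.assoc _ _ _).symm.trans ?_
  refine (congrArg (fun t => t ≫ HomologicalComplex.homologyMap (cechAIsoK A U G').hom p) h').trans ?_
  refine (Category.assoc _ _ _).trans ?_
  refine Eq.trans ?_ (Category.assoc _ _ _).symm
  congr 1
  exact (HomologicalComplex.homologyMap_comp _ _ p).symm.trans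
    ((congrArg (fun t => HomologicalComplex.homologyMap t p) (cechAIsoK_naturality A U φ)).trans
      (HomologicalComplex.homologyMap_comp _ _ p))

lemma cechAHomologyIso_naturality_apply (p : ℕ) (x : (cechA A U G).homology p) :
    (cechAHomologyIso A U G' p).hom ((HomologicalComplex.homologyMap (cechAMap A U φ) p).hom x) =
      Groth.Agent.H88.LerayNat.cechMap (X := X.toTopCat) U (toAbMap φ) p
        ((cechAHomologyIso A U G p).hom x) :=
  ConcreteCategory.congr_hom (cechAHomologyIso_naturality A U φ p) x

end CechMap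

section NatLeray

open Groth.Agent.Lead.Coh Abelian in
/-- **Natural Leray for the `A`-linear Čech complex**: for a cover with affine finite
intersections, `H^p(cechA A U G) ≃+ H^p(X, G)` for quasi-coherent `G`, naturally in `G`. -/
theorem exists_cechA_homology_equiv_natural {ι : Type u} (U : ι → X.Opens) (hU : iSup U = ⊤)
    (hA : ∀ (p : ℕ) (σ : Fin (p + 1) → ι), IsAffineOpen (cechOpen (X := X) U σ)) (p : ℕ) :
    ∃ e : ∀ (G : X.Modules), G.IsQuasicoherent →
        (((cechA A U G).homology p : Type u) ≃+ Coh.HH X G p),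
      ∀ (G G' : X.Modules) (hG : G.IsQuasicoherent) (hG' : G'.IsQuasicoherent) (φ : G ⟶ G')
        (x : ((cechA A U G).homology p : Type u)),
        e G' hG' ((HomologicalComplex.homologyMap (cechAMap A U φ) p).hom x) =
          Sheaf.H.map (toAbMap φ) p (e G hG x) := by
  obtain ⟨e88, hnat⟩ := Groth.Agent.H88.LerayLinear.exists_leray_natural'
    (T := X.toTopCat) U ⊤ hU p
  obtain ⟨ec⟩ := exists_iso_constant (J := Opens.grothendieckTopology X) (T₀ := (⊤ : X.Opens))
    isTerminalTop
  have hacyc : ∀ (G : X.Modules), G.IsQuasicoherent →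
      Groth.Agent.Lead.Cech.Acyc (X := X.toTopCat) U (Coh.toAb G) := fun G hG =>
    haveI := hG
    Groth.Agent.H88.LerayLinear.acyc_of_isAffineOpen_cechOpen G U hA
  -- precomposition with the iso `freeSheaf ⊤ ≅ ℤ`
  let pre : ∀ (G : X.Modules),
      Ext (freeSheaf (Opens.grothendieckTopology X) (⊤ : X.Opens)) (Coh.toAb G) p ≃+
        Coh.HH X G p := fun G =>
    { toFun := fun x => (Ext.mk₀ ec.inv).comp x (zero_add p)
      invFun := fun y => (Ext.mk₀ ec.hom).comp y (zero_add p)
      left_inv := fun x => by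
        change (Ext.mk₀ ec.hom).comp ((Ext.mk₀ ec.inv).comp x (zero_add p)) (zero_add p) = x
        rw [Ext.mk₀_comp_mk₀_assoc, ec.hom_inv_id, Ext.mk₀_id_comp]
      right_inv := fun y => by
        change (Ext.mk₀ ec.inv).comp ((Ext.mk₀ ec.hom).comp y (zero_add p)) (zero_add p) = y
        rw [Ext.mk₀_comp_mk₀_assoc, ec.inv_hom_id, Ext.mk₀_id_comp]
      map_add' := fun x y => Ext.comp_add _ _ _ _ }
  refine ⟨fun G hG => ((cechAHomologyIso A U G p).addCommGroupIsoToAddEquiv.trans
    (e88 (Coh.toAb G) (hacyc G hG))).trans (pre G), ?_⟩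
  intro G G' hG hG' φ x
  change (Ext.mk₀ ec.inv).comp (e88 (Coh.toAb G') (hacyc G' hG')
      ((cechAHomologyIso A U G' p).hom
        ((HomologicalComplex.homologyMap (cechAMap A U φ) p).hom x))) (zero_add p) =
    ((Ext.mk₀ ec.inv).comp (e88 (Coh.toAb G) (hacyc G hG)
      ((cechAHomologyIso A U G p).hom x)) (zero_add p)).comp (Ext.mk₀ (toAbMap φ)) (add_zero p)
  rw [cechAHomologyIso_naturality_apply, hnat (Coh.toAb G) (Coh.toAb G') (hacyc G hG)
    (hacyc G' hG') (toAbMap φ)]
  exact (Ext.comp_assoc (Ext.mk₀ ec.inv) _ (Ext.mk₀ (toAbMap φ)) (zero_add p) (add_zero p)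
    (by omega)).symm

end NatLeray

/-! ### `Γ(V, F) ⊗_A M ≃ Γ(V, F ⊗_A M)` in terms of `SecA` -/

section Theta

variable (F : X.Modules) (M : ModuleCat.{u} A)

/-- `F ⊗_A M` -/
noncomputable abbrev PhiM : X.Modules := (CohIII.tensorAFunctor A F).obj M

/-- helper85's `theta`, for `SecA` -/
noncomputable def thetaA (V : X.Opens) : SecA A F V ⊗[A] M →ₗ[A] SecA A (PhiM A F M) V :=
  (secEq A (GM A F M) V).symm.toLinearMap ∘ₗ theta A F M V ∘ₗ
    (secEq A F V).toLinearMap.rTensor M

lemma thetaA_res {V W : X.Opens} (h : W ≤ V) (x : SecA A F V ⊗[A] M) :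
    resA A (PhiM A F M) h (thetaA A F M V x) =
      thetaA A F M W ((resA A F h).rTensor M x) := by
  have h1 := Groth.Agent.H85.BC.theta_res A F M (homOfLE h)
    ((secEq A F V).toLinearMap.rTensor M x)
  have h2 : (secRes A F (homOfLE h)).rTensor M ((secEq A F V).toLinearMap.rTensor M x) =
      (secEq A F W).toLinearMap.rTensor M ((resA A F h).rTensor M x) := by
    rw [← LinearMap.comp_apply, ← LinearMap.comp_apply, ← LinearMap.rTensor_comp,
      ← LinearMap.rTensor_comp]
    rfl
  rw [h2] at h1
  exact h1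

variable {M} in
lemma thetaA_naturality {N : ModuleCat.{u} A} (g : M ⟶ N) (V : X.Opens)
    (x : SecA A F V ⊗[A] M) :
    secAMap A ((CohIII.tensorAFunctor A F).map g) V (thetaA A F M V x) =
      thetaA A F N V (g.hom.lTensor (SecA A F V) x) := by
  have h1 := Groth.Agent.H85.BC.theta_naturality A F g V
    ((secEq A F V).toLinearMap.rTensor M x)
  have h2 : g.hom.lTensor (Sec A F V) ((secEq A F V).toLinearMap.rTensor M x) =
      (secEq A F V).toLinearMap.rTensor N (g.hom.lTensor (SecA A F V) x) := by
    rw [← LinearMap.comp_apply, ← LinearMap.comp_apply, LinearMap.lTensor_comp_rTensor,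
      LinearMap.rTensor_comp_lTensor]
  rw [h2] at h1
  exact h1

lemma thetaA_bijective [F.IsQuasicoherent] {V : X.Opens} (hV : IsAffineOpen V) :
    Function.Bijective (thetaA A F M V) := by
  have h1 := Groth.Agent.H85.BC.theta_bijective A F M hV
  have h2 : Function.Bijective ((secEq A F V).toLinearMap.rTensor M) :=
    (LinearEquiv.rTensor M (secEq A F V)).bijective
  exact (secEq A (GM A F M) V).symm.bijective.comp (h1.comp h2)

end Theta

/-! ### `Č(U, F) ⊗_A M ≅ Č(U, F ⊗_A M)` -/

section CechTheta

variable {ι : Type u} (U : ι → X.Opens) (F : X.Modules) (M : ModuleCat.{u} A)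

/-- the comparison on Čech cochains -/
noncomputable def cechTheta (p : ℕ) :
    CechX A U F p ⊗[A] M →ₗ[A] CechX A U (PhiM A F M) p :=
  LinearMap.pi (fun σ => thetaA A F M (cechOpen (X := X) U σ) ∘ₗ
    (LinearMap.proj (R := A)
      (φ := fun τ : Fin (p + 1) → ι => SecA A F (cechOpen (X := X) U τ)) σ).rTensor M)

lemma cechTheta_tmul (p : ℕ) (c : CechX A U F p) (m : M) (σ : Fin (p + 1) → ι) :
    cechTheta A U F M p (c ⊗ₜ m) σ = thetaA A F M (cechOpen (X := X) U σ) (c σ ⊗ₜ m) := rfl

lemma cechTheta_dA (p : ℕ) (x : CechX A U F p ⊗[A] M) :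
    cechTheta A U F M (p + 1) ((dA A U F p).rTensor M x) =
      dA A U (PhiM A F M) p (cechTheta A U F M p x) := by
  induction x using TensorProduct.induction_on with
  | zero => simp
  | add x y hx hy => simp only [map_add, hx, hy]
  | tmul c m =>
    funext σ
    rw [LinearMap.rTensor_tmul, cechTheta_tmul, dA_apply, dA_apply, TensorProduct.sum_tmul,
      map_sum]
    refine Finset.sum_congr rfl (fun j _ => ?_)
    rw [← TensorProduct.smul_tmul', map_zsmul, cechTheta_tmul, thetaA_res,
      LinearMap.rTensor_tmul]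

variable {M} in
lemma cechTheta_naturality {N : ModuleCat.{u} A} (g : M ⟶ N) (p : ℕ)
    (x : CechX A U F p ⊗[A] M) :
    cechXMap A U ((CohIII.tensorAFunctor A F).map g) p (cechTheta A U F M p x) =
      cechTheta A U F N p (g.hom.lTensor (CechX A U F p) x) := by
  induction x using TensorProduct.induction_on with
  | zero => simp
  | add x y hx hy => simp only [map_add, hx, hy]
  | tmul c m =>
    funext σ
    rw [cechXMap_apply, cechTheta_tmul, LinearMap.lTensor_tmul, cechTheta_tmul,
      thetaA_naturality, LinearMap.lTensor_tmul]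

theorem cechTheta_bijective [Finite ι] [F.IsQuasicoherent]
    (hA : ∀ (p : ℕ) (σ : Fin (p + 1) → ι), IsAffineOpen (cechOpen (X := X) U σ)) (p : ℕ) :
    Function.Bijective (cechTheta A U F M p) := by
  classical
  haveI : Fintype (Fin (p + 1) → ι) := Fintype.ofFinite _
  let e1 := TensorProduct.piLeft A M
    (fun σ : Fin (p + 1) → ι => SecA A F (cechOpen (X := X) U σ))
  let e2 : (∀ σ : Fin (p + 1) → ι, SecA A F (cechOpen (X := X) U σ) ⊗[A] M) ≃ₗ[A]
      CechX A U (PhiM A F M) p :=
    LinearEquiv.piCongrRight (fun σ => LinearEquiv.ofBijective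
      (thetaA A F M (cechOpen (X := X) U σ)) (thetaA_bijective A F M (hA p σ)))
  have key : (cechTheta A U F M p : CechX A U F p ⊗[A] M → _) = fun z => e2 (e1 z) := by
    funext z
    induction z using TensorProduct.induction_on with
    | zero => simp
    | add x y hx hy => simp only [map_add, hx, hy]
    | tmul c m =>
      funext σ
      rfl
  rw [key]
  exact e2.bijective.comp e1.bijective

end CechTheta

section Complex

variable {ι : Type u} [Finite ι] (U : ι → X.Opens) (F : X.Modules) [F.IsQuasicoherent]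
  (hA : ∀ (p : ℕ) (σ : Fin (p + 1) → ι), IsAffineOpen (cechOpen (X := X) U σ))

/-- the termwise equivalence -/
noncomputable def cechThetaEquiv (M : ModuleCat.{u} A) (p : ℕ) :
    ((CohIII.tensorObj (cechA A U F) M).X p) ≃ₗ[A] ((cechA A U (PhiM A F M)).X p) :=
  LinearEquiv.ofBijective (cechTheta A U F M p) (cechTheta_bijective A U F M hA p)

lemma cechThetaEquiv_apply (M : ModuleCat.{u} A) (p : ℕ)
    (x : (CohIII.tensorObj (cechA A U F) M).X p) :
    cechThetaEquiv A U F hA M p x = cechTheta A U F M p x := rfl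

/-- **`Č(U, F) ⊗_A M ≅ Č(U, F ⊗_A M)`** -/
noncomputable def cechThetaIso (M : ModuleCat.{u} A) :
    CohIII.tensorObj (cechA A U F) M ≅ cechA A U (PhiM A F M) :=
  HomologicalComplex.Hom.isoOfComponents
    (fun p => (cechThetaEquiv A U F hA M p).toModuleIso)
    (by
      rintro i j (rfl : i + 1 = j)
      ext x
      have e1 : ((cechA A U (PhiM A F M)).d i (i + 1)).hom = dA A U (PhiM A F M) i := by
        rw [cechA_d]; rfl
      have e2 : ((CohIII.tensorObj (cechA A U F) M).d i (i + 1)).hom =
          (dA A U F i).rTensor M := by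
        change (((cechA A U F).d i (i + 1)).hom).rTensor M = _
        rw [cechA_d]; rfl
      change ((cechA A U (PhiM A F M)).d i (i + 1)).hom (cechTheta A U F M i x) =
        cechTheta A U F M (i + 1) (((CohIII.tensorObj (cechA A U F) M).d i (i + 1)).hom x)
      rw [e1, e2]
      exact (cechTheta_dA A U F M i x).symm)

lemma cechThetaIso_hom_f_apply (M : ModuleCat.{u} A) (p : ℕ)
    (x : (CohIII.tensorObj (cechA A U F) M).X p) :
    ((cechThetaIso A U F hA M).hom.f p).hom x = cechTheta A U F M p x := rfl

/-- naturality in `M` -/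
lemma cechThetaIso_naturality {M N : ModuleCat.{u} A} (g : M ⟶ N) :
    CohIII.tensorMap (cechA A U F) g ≫ (cechThetaIso A U F hA N).hom =
      (cechThetaIso A U F hA M).hom ≫ cechAMap A U ((CohIII.tensorAFunctor A F).map g) := by
  ext p x
  change cechTheta A U F N p (g.hom.lTensor (CechX A U F p) x) =
    cechXMap A U ((CohIII.tensorAFunctor A F).map g) p (cechTheta A U F M p x)
  exact (cechTheta_naturality A U F g p x).symm

end Complex

section NatIso

variable {ι : Type u} [Finite ι] (U : ι → X.Opens) (F : X.Modules) [F.IsQuasicoherent]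

instance isQuasicoherent_PhiM (M : ModuleCat.{u} A) : (PhiM A F M).IsQuasicoherent := by
  haveI : ((tilde.functor (CommRingCat.of A)).obj M).IsQuasicoherent :=
    inferInstanceAs (tilde (R := CommRingCat.of A) M).IsQuasicoherent
  haveI : (Groth.Agent.H85.BC.pullTilde A (X := X) M).IsQuasicoherent :=
    Groth.Agent.H44.isQuasicoherent_pullback _ _
  exact (inferInstance : (CohB1.tensorMod (Groth.Agent.H85.BC.pullTilde A M) F).IsQuasicoherent)

/-- **The Čech complex computes `M ↦ H^p(X, F ⊗_A M)`, naturally in `M`.** -/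
theorem nonempty_TFun_cechA_natIso (hU : iSup U = ⊤)
    (hA : ∀ (p : ℕ) (σ : Fin (p + 1) → ι), IsAffineOpen (cechOpen (X := X) U σ)) (p : ℕ) :
    Nonempty (CohIII.TFun (cechA A U F) p ⋙ forget₂ (ModuleCat.{u} A) AddCommGrpCat.{u} ≅
      CohIII.tensorAFunctor A F ⋙ CohIII.HAb X p) := by
  obtain ⟨e, he⟩ := exists_cechA_homology_equiv_natural A U hU hA p
  let α : ∀ M : ModuleCat.{u} A, (CohIII.T (cechA A U F) p M) ≃+ Coh.HH X (PhiM A F M) p :=
    fun M => (((HomologicalComplex.homologyFunctor _ _ p).mapIso
      (cechThetaIso A U F hA M)).toLinearEquiv.toAddEquiv).trans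
        (e (PhiM A F M) (isQuasicoherent_PhiM A F M))
  refine ⟨NatIso.ofComponents (fun M => (α M).toAddCommGrpIso) ?_⟩
  intro M N g
  ext t
  change α N ((HomologicalComplex.homologyMap (CohIII.tensorMap (cechA A U F) g) p).hom t) =
    Sheaf.H.map (toAbMap ((CohIII.tensorAFunctor A F).map g)) p (α M t)
  change e (PhiM A F N) _ ((HomologicalComplex.homologyMap (cechThetaIso A U F hA N).hom p).hom
      ((HomologicalComplex.homologyMap (CohIII.tensorMap (cechA A U F) g) p).hom t)) =
    Sheaf.H.map (toAbMap ((CohIII.tensorAFunctor A F).map g)) p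
      (e (PhiM A F M) _ ((HomologicalComplex.homologyMap (cechThetaIso A U F hA M).hom p).hom t))
  rw [← he (PhiM A F M) (PhiM A F N) (isQuasicoherent_PhiM A F M) (isQuasicoherent_PhiM A F N)]
  congr 1
  have h1 : HomologicalComplex.homologyMap (CohIII.tensorMap (cechA A U F) g) p ≫
      HomologicalComplex.homologyMap (cechThetaIso A U F hA N).hom p =
    HomologicalComplex.homologyMap (cechThetaIso A U F hA M).hom p ≫
      HomologicalComplex.homologyMap (cechAMap A U ((CohIII.tensorAFunctor A F).map g)) p := by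
    rw [← HomologicalComplex.homologyMap_comp, ← HomologicalComplex.homologyMap_comp,
      cechThetaIso_naturality]
  exact congrArg (fun f => f.hom (show ((CohIII.tensorObj (cechA A U F) M).homology p) from t)) h1

end NatIso

end Groth.Agent.H96.BC
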