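import Mathlib
import Groth.Agent.H43.LerayLin5

/-!
# The terms of the Čech complex functor as a product of evaluation functors (piece (ii))
-/

set_option autoImplicit false
set_option linter.style.haveILetI false
set_option linter.unusedSectionVars false
set_option linter.unusedVariables false
universe u v w
open CategoryTheory CategoryTheory.Limits TopologicalSpace Opposite
open CechEdge
open Groth.Agent.H43.LerayLin (famTop pi_left_eq)

namespace Groth.Agent.H96.BC

variable {X : TopCat.{u}} {ι : Type u} (U : ι → Opens X)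

/-- the intersection attached to a tuple -/
abbrev interOpen {n : ℕ} (a : Fin (n + 1) → ι) : Opens X := ⨅ k, U (a k)

lemma famTop_pi_left {n : ℕ} (a : Fin (n + 1) → ι) :
    (∏ᶜ (famTop U ∘ a)).left = interOpen U a :=
  pi_left_eq (fun k => famTop U (a k))

variable {𝒟 : Type v} [Category.{w} 𝒟] (Ψ : 𝒟 ⥤ (Opens X)ᵒᵖ ⥤ AddCommGrpCat.{u})

/-- the functor `d ↦ (Ψ d)(⨅ k, U (a k))` -/
abbrev evalInter {n : ℕ} (a : Fin (n + 1) → ι) : 𝒟 ⥤ AddCommGrpCat.{u} :=
  Ψ ⋙ (evaluation _ _).obj (op (interOpen U a))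

/-- the degree `n` Čech cochains functor -/
noncomputable abbrev cechTerm (n : ℕ) : 𝒟 ⥤ AddCommGrpCat.{u} :=
  Ψ ⋙ cxFunctor (famTop U) ⋙ HomologicalComplex.eval _ _ n

/-- projection of the Čech cochains to the component `a` -/
noncomputable def termProj (n : ℕ) (a : Fin (n + 1) → ι) : cechTerm U Ψ n ⟶ evalInter U Ψ a where
  app d := Pi.π (fun x : Fin (n + 1) → ι => (Ψ.obj d).obj (op (∏ᶜ (famTop U ∘ x)).left)) a ≫
    (Ψ.obj d).map (eqToHom (famTop_pi_left U a).symm).op
  naturality d d' g := by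
    change Limits.Pi.map (fun x : Fin (n + 1) → ι => (Ψ.map g).app (op (∏ᶜ (famTop U ∘ x)).left)) ≫
      Pi.π (fun x : Fin (n + 1) → ι => (Ψ.obj d').obj (op (∏ᶜ (famTop U ∘ x)).left)) a ≫ _ =
      (Pi.π (fun x : Fin (n + 1) → ι => (Ψ.obj d).obj (op (∏ᶜ (famTop U ∘ x)).left)) a ≫ _) ≫
        (Ψ.map g).app (op (interOpen U a))
    rw [Limits.Pi.map_π_assoc, Category.assoc, (Ψ.map g).naturality]

/-- the comparison morphism to the product of the evaluation functors -/
noncomputable def termToPi (n : ℕ) :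
    cechTerm U Ψ n ⟶ ∏ᶜ (fun a : Fin (n + 1) → ι => evalInter U Ψ a) :=
  Pi.lift (termProj U Ψ n)

/-- the degree `n` cochains, objectwise, with the honest index type -/
noncomputable abbrev srcObj (n : ℕ) (d : 𝒟) : AddCommGrpCat.{u} :=
  ∏ᶜ (fun x : Fin (n + 1) → ι => (Ψ.obj d).obj (op (∏ᶜ (famTop U ∘ x)).left))

/-- the objectwise comparison -/
noncomputable def termObjMap (n : ℕ) (d : 𝒟) :
    srcObj U Ψ n d ⟶ ∏ᶜ (fun a : Fin (n + 1) → ι => (evalInter U Ψ a).obj d) :=
  Limits.Pi.map (f := fun x : Fin (n + 1) → ι => (Ψ.obj d).obj (op (∏ᶜ (famTop U ∘ x)).left))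
    (g := fun a : Fin (n + 1) → ι => (evalInter U Ψ a).obj d)
    (fun a : Fin (n + 1) → ι => (Ψ.obj d).map (eqToHom (famTop_pi_left U a).symm).op)

instance isIso_termObjMap (n : ℕ) (d : 𝒟) : IsIso (termObjMap U Ψ n d) := by
  haveI : ∀ a : Fin (n + 1) → ι,
      IsIso ((Ψ.obj d).map (eqToHom (famTop_pi_left U a).symm).op) := fun a => inferInstance
  unfold termObjMap
  infer_instance

lemma termToPi_app (n : ℕ) (d : 𝒟) :
    (termToPi U Ψ n).app d =
      (show (cechTerm U Ψ n).obj d ⟶ _ from termObjMap U Ψ n d) ≫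
        (piObjIso (fun a : Fin (n + 1) → ι => evalInter U Ψ a) d).inv := by
  rw [Iso.eq_comp_inv]
  apply Pi.hom_ext
  intro a
  rw [Category.assoc, piObjIso_hom_comp_π, ← NatTrans.comp_app]
  unfold termToPi
  rw [Pi.lift_π]
  change _ = termObjMap U Ψ n d ≫ _
  unfold termObjMap
  rw [Limits.Pi.map_π]
  rfl

instance isIso_termToPi (n : ℕ) : IsIso (termToPi U Ψ n) := by
  haveI : ∀ d, IsIso ((termToPi U Ψ n).app d) := by
    intro d
    rw [termToPi_app]
    haveI : IsIso (show (cechTerm U Ψ n).obj d ⟶ _ from termObjMap U Ψ n d) :=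
      isIso_termObjMap U Ψ n d
    infer_instance
  exact NatIso.isIso_of_isIso_app _

/-- **(ii)**: the degree `n` term of the Čech complex functor is the product of the evaluation
functors at the finite intersections. -/
noncomputable def cechTermIso (n : ℕ) :
    Ψ ⋙ cxFunctor (famTop U) ⋙ HomologicalComplex.eval _ _ n ≅
      ∏ᶜ (fun a : Fin (n + 1) → ι => Ψ ⋙ (evaluation _ _).obj (op (⨅ k, U (a k)))) :=
  asIso (termToPi U Ψ n)

lemma cechTermIso_hom_π (n : ℕ) (a : Fin (n + 1) → ι) :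
    (cechTermIso U Ψ n).hom ≫ Pi.π _ a = termProj U Ψ n a := by
  change termToPi U Ψ n ≫ _ = _
  unfold termToPi
  rw [Pi.lift_π]

end Groth.Agent.H96.BC
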