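import Mathlib
import Groth.Prelude.Def_ega3
import Groth.Agent.H96.BaseChange.TBridge

/-!
# The fibre ranks of a complex only depend on the functor `M ↦ H_p(P ⊗_A M)` (helper96)

* `TEquivBcHomology_map_mul` : `TEquivBcHomology B P p` intertwines the action of `b : B` on
  `T_p(B)` through functoriality (`M = B`, multiplication by `b`) with scalar multiplication;
* `nonempty_bcCx_homology_linearEquiv_of_natIso` : a natural isomorphism
  `TFun P p ⋙ forget₂ ≅ TFun Q q ⋙ forget₂` gives `H_p(P ⊗_A B) ≃ₗ[B] H_q(Q ⊗_A B)` for every `B`;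
* `dRank_eq_of_natIso`.
-/

set_option autoImplicit false
set_option linter.style.haveILetI false
set_option linter.unusedSectionVars false
set_option linter.unusedVariables false

universe u

open CategoryTheory CategoryTheory.Limits TensorProduct CohIII
open Groth.Agent.H12 Groth.Agent.H12.TCx

namespace Groth.Agent.H96.BC

section Mul

variable {A : Type u} [CommRing A] (B : Type u) [CommRing B] [Algebra A B]

/-- multiplication by `b` on `B`, as an endomorphism of the `A`-module `B` -/
noncomputable def mulHom (b : B) : ModuleCat.of A B ⟶ ModuleCat.of A B :=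
  ModuleCat.ofHom (LinearMap.mulLeft A b)

lemma mulHom_hom_apply (b b' : B) : (mulHom (A := A) B b).hom b' = b * b' := rfl

variable {ι : Type} {c : ComplexShape ι} (P : HomologicalComplex (ModuleCat.{u} A) c) (p : ι)

lemma comm_lTensor_mul {W : Type u} [AddCommGroup W] [Module A W] (b : B) (x : W ⊗[A] B) :
    TensorProduct.comm A W B ((LinearMap.mulLeft A b).lTensor W x) =
      b • TensorProduct.comm A W B x := by
  induction x using TensorProduct.induction_on with
  | zero => simp
  | add x y hx hy => simp only [map_add, hx, hy, smul_add]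
  | tmul w b' =>
    rw [LinearMap.lTensor_tmul, TensorProduct.comm_tmul, TensorProduct.comm_tmul,
      TensorProduct.smul_tmul', LinearMap.mulLeft_apply, smul_eq_mul]

/-- **`TEquivBcHomology` is `B`-semilinear** for the functorial action on `T_p(B)`. -/
theorem TEquivBcHomology_map_mul (b : B) (t : CohIII.T P p (ModuleCat.of A B)) :
    TEquivBcHomology B P p (((TFun P p).map (mulHom (A := A) B b)).hom t) =
      b • TEquivBcHomology B P p t := by
  change (UCTB.homologyBcEquiv B P p).symm (kerCommAddEquiv B (lW P p)
      (TEquivKer P p (ModuleCat.of A B) (((TFun P p).map (mulHom (A := A) B b)).hom t))) =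
    b • (UCTB.homologyBcEquiv B P p).symm (kerCommAddEquiv B (lW P p)
      (TEquivKer P p (ModuleCat.of A B) t))
  rw [← LinearEquiv.map_smul, TEquivKer_natural]
  congr 1
  apply Subtype.ext
  exact comm_lTensor_mul B b _

end Mul

section NatIso

variable {A : Type u} [CommRing A] {ι ι' : Type} {c : ComplexShape ι} {c' : ComplexShape ι'}
  (P : HomologicalComplex (ModuleCat.{u} A) c) (Q : HomologicalComplex (ModuleCat.{u} A) c')
  (p : ι) (q : ι')

set_option maxRecDepth 8000 in
/-- a natural isomorphism between the `T`-functors gives linear isomorphisms between the homologies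
of all the base changes -/
theorem nonempty_bcCx_homology_linearEquiv_of_natIso
    (η : TFun P p ⋙ forget₂ (ModuleCat.{u} A) AddCommGrpCat.{u} ≅
      TFun Q q ⋙ forget₂ (ModuleCat.{u} A) AddCommGrpCat.{u})
    (B : Type u) [CommRing B] [Algebra A B] :
    Nonempty ((CohIII.bcCx (algebraMap A B) P).homology p ≃ₗ[B]
      (CohIII.bcCx (algebraMap A B) Q).homology q) := by
  let ηB : CohIII.T P p (ModuleCat.of A B) ≃+ CohIII.T Q q (ModuleCat.of A B) :=
    (η.app (ModuleCat.of A B)).addCommGroupIsoToAddEquiv
  have hnat : ∀ (b : B) (t : CohIII.T P p (ModuleCat.of A B)),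
      ηB (((TFun P p).map (mulHom (A := A) B b)).hom t) =
        ((TFun Q q).map (mulHom (A := A) B b)).hom (ηB t) := fun b t =>
    ConcreteCategory.congr_hom (η.hom.naturality (mulHom (A := A) B b)) t
  let f : (CohIII.bcCx (algebraMap A B) P).homology p ≃+
      (CohIII.bcCx (algebraMap A B) Q).homology q :=
    ((TEquivBcHomology B P p).symm.trans ηB).trans (TEquivBcHomology B Q q)
  refine ⟨{ f with map_smul' := fun b z => ?_ }⟩
  obtain ⟨t, rfl⟩ := (TEquivBcHomology B P p).surjective z
  change f (b • TEquivBcHomology B P p t) = b • f (TEquivBcHomology B P p t)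
  rw [← TEquivBcHomology_map_mul]
  have h1 : (TEquivBcHomology B P p).symm
      (TEquivBcHomology B P p (((TFun P p).map (mulHom (A := A) B b)).hom t)) =
      ((TFun P p).map (mulHom (A := A) B b)).hom t := AddEquiv.symm_apply_apply _ _
  have h2 : (TEquivBcHomology B P p).symm (TEquivBcHomology B P p t) = t :=
    AddEquiv.symm_apply_apply _ _
  have e1 : f (TEquivBcHomology B P p (((TFun P p).map (mulHom (A := A) B b)).hom t)) =
      TEquivBcHomology B Q q (ηB (((TFun P p).map (mulHom (A := A) B b)).hom t)) :=
    congrArg (fun w => TEquivBcHomology B Q q (ηB w)) h1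
  have e2 : f (TEquivBcHomology B P p t) = TEquivBcHomology B Q q (ηB t) :=
    congrArg (fun w => TEquivBcHomology B Q q (ηB w)) h2
  rw [e1, e2, hnat, TEquivBcHomology_map_mul]

/-- **the fibre ranks only depend on the `T`-functor** -/
theorem dRank_eq_of_natIso
    (η : TFun P p ⋙ forget₂ (ModuleCat.{u} A) AddCommGrpCat.{u} ≅
      TFun Q q ⋙ forget₂ (ModuleCat.{u} A) AddCommGrpCat.{u}) (x : PrimeSpectrum A) :
    CohIII.dRank P p x = CohIII.dRank Q q x := by
  obtain ⟨e⟩ := nonempty_bcCx_homology_linearEquiv_of_natIso P Q p q η x.asIdeal.ResidueField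
  exact e.finrank_eq

end NatIso

end Groth.Agent.H96.BC
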