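import Mathlib
import Groth.Prelude.Def_ega3
import Groth.Agent.H96.BaseChange.FibCech

/-!
# (FIB2) The fibre ranks of a quasi-coherent module are the ranks of its Čech complex
(helper96, BASE-CHANGE chain)

`fiberRank_eq_dRank_cechA` : for `X` over `Spec A`, `U` a finite family of opens of `X` covering `X`
all of whose finite intersections are affine, `F` quasi-coherent, `y ∈ Spec A`:
`CohIII.fiberRank (X ↘ Spec A) F p y = CohIII.dRank (cechA A U F) p y`.
-/

set_option autoImplicit false
set_option linter.style.haveILetI false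
set_option linter.unusedSectionVars false
set_option linter.unusedVariables false

universe u

open CategoryTheory CategoryTheory.Limits AlgebraicGeometry TopologicalSpace Opposite TensorProduct
open Groth.Agent.Lead.Cech

namespace Groth.Agent.H96.BC

section ToGlobal

variable {X : Scheme.{u}}

/-- `Coh.toGlobal` of a composite with `Spec.map`. -/
lemma toGlobal_comp_specMap {R S : Type u} [CommRing R] [CommRing S]
    (q : X ⟶ Spec (CommRingCat.of S)) (φ : CommRingCat.of R ⟶ CommRingCat.of S) (c : R) :
    Coh.toGlobal (q ≫ Spec.map φ) c = Coh.toGlobal q (φ.hom c) := by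
  unfold Coh.toGlobal
  have h := Scheme.ΓSpecIso_inv_naturality φ
  have h2 : (q ≫ Spec.map φ).appTop = (Spec.map φ).appTop ≫ q.appTop := Scheme.Hom.comp_appTop _ _
  rw [h2]
  change (q.appTop).hom (((Spec.map φ).appTop).hom ((Scheme.ΓSpecIso (CommRingCat.of R)).inv.hom c)) = _
  have h3 : ((Spec.map φ).appTop).hom ((Scheme.ΓSpecIso (CommRingCat.of R)).inv.hom c) =
      (Scheme.ΓSpecIso (CommRingCat.of S)).inv.hom (φ.hom c) := by
    have := ConcreteCategory.congr_hom h c
    exact this.symm
  rw [h3]
  rfl

end ToGlobal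

section Fibre

variable (A : Type u) [CommRing A] {X : Scheme.{u}} [X.Over (Spec (CommRingCat.of A))]
  {ι : Type u} [Finite ι] (U : ι → X.Opens) (F : X.Modules) [F.IsQuasicoherent]

set_option backward.isDefEq.respectTransparency.types false in
/-- the fibre over `y ∈ Spec A`, as a scheme over the spectrum of `κ(y) = Frac(A/y)`
(Mathlib's `Ideal.ResidueField`). -/
@[instance_reducible] noncomputable def fiberOverκ (y : Spec (CommRingCat.of A)) :
    ((X ↘ Spec (CommRingCat.of A)).fiber y).Over (Spec (CommRingCat.of y.asIdeal.ResidueField)) :=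
  ⟨(X ↘ Spec (CommRingCat.of A)).fiberToSpecResidueField y ≫
    Spec.map (Scheme.Spec.residueFieldIso (CommRingCat.of A) y).inv⟩

set_option backward.isDefEq.respectTransparency.types false in
lemma isPullback_fiberκ (y : Spec (CommRingCat.of A)) :
    IsPullback ((X ↘ Spec (CommRingCat.of A)).fiberι y)
      ((X ↘ Spec (CommRingCat.of A)).fiberToSpecResidueField y ≫
        Spec.map (Scheme.Spec.residueFieldIso (CommRingCat.of A) y).inv)
      (X ↘ Spec (CommRingCat.of A))
      (Spec.map (CommRingCat.ofHom (algebraMap A y.asIdeal.ResidueField))) := by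
  have h0 : IsPullback ((X ↘ Spec (CommRingCat.of A)).fiberι y)
      ((X ↘ Spec (CommRingCat.of A)).fiberToSpecResidueField y)
      (X ↘ Spec (CommRingCat.of A)) ((Spec (CommRingCat.of A)).fromSpecResidueField y) :=
    IsPullback.of_hasPullback _ _
  refine IsPullback.of_iso h0 (Iso.refl _) (Iso.refl _)
    (asIso (Spec.map (Scheme.Spec.residueFieldIso (CommRingCat.of A) y).inv)) (Iso.refl _)
    (by simp) (by simp) (by simp) ?_
  simp only [asIso_hom, Iso.refl_hom, Category.comp_id]
  exact (Scheme.Spec.map_residueFieldIso_inv_eq_fromSpecResidueField (CommRingCat.of A) y).symm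

set_option backward.isDefEq.respectTransparency.types false in
/-- **(FIB2) the fibre ranks are the ranks of the Čech complex.** -/
theorem fiberRank_eq_dRank_cechA (hU : iSup U = ⊤)
    (hA : ∀ (p : ℕ) (σ : Fin (p + 1) → ι), IsAffineOpen (cechOpen (X := X) U σ))
    (p : ℕ) (y : Spec (CommRingCat.of A)) :
    CohIII.fiberRank (X ↘ Spec (CommRingCat.of A)) F p y = CohIII.dRank (cechA A U F) p y := by
  letI ov := fiberOverκ A (X := X) y
  have hpb := isPullback_fiberκ A (X := X) y
  obtain ⟨e⟩ := nonempty_bcCx_homology_linearEquiv (A := A) (B := y.asIdeal.ResidueField)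
    ((X ↘ Spec (CommRingCat.of A)).fiberι y) U hpb.w F hpb hA hU p
  have h1 : CohIII.dRank (cechA A U F) p y = Module.finrank y.asIdeal.ResidueField
      (Coh.HH _ (CohIII.fiberMod (X ↘ Spec (CommRingCat.of A)) F y) p) := e.finrank_eq
  rw [h1]
  unfold CohIII.fiberRank Module.finrank
  congr 1
  refine (rank_eq_of_equiv_equiv
    (Scheme.Spec.residueFieldIso (CommRingCat.of A) y).inv.hom (AddEquiv.refl _)
    (ConcreteCategory.bijective_of_isIso (Scheme.Spec.residueFieldIso (CommRingCat.of A) y).inv)
    (fun c m => ?_)).symm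
  change Coh.toGlobal ((X ↘ Spec (CommRingCat.of A)).fiberToSpecResidueField y ≫
      Spec.map (Scheme.Spec.residueFieldIso (CommRingCat.of A) y).inv) c • m =
    Coh.toGlobal ((X ↘ Spec (CommRingCat.of A)).fiberToSpecResidueField y)
      ((Scheme.Spec.residueFieldIso (CommRingCat.of A) y).inv.hom c) • m
  exact congrArg (fun r => r • m)
    (toGlobal_comp_specMap ((X ↘ Spec (CommRingCat.of A)).fiberToSpecResidueField y)
      (Scheme.Spec.residueFieldIso (CommRingCat.of A) y).inv c)

end Fibre

end Groth.Agent.H96.BC
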