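import Mathlib
import Groth.Prelude.Def_ega3
import Groth.Agent.H96.BaseChange.FlatBC
import Groth.Agent.H71.CohBC.HHIso

/-!
# (FIB3) The fibre ranks are invariant under base change (helper96)

For a cartesian square `X' = X ×_Y Y'` with `f : X ⟶ Y` quasi-compact and separated, `F`
quasi-coherent on `X` and `y'` a point of `Y'`:
`CohIII.fiberRank f' (g'^* F) p y' = CohIII.fiberRank f F p (g y')`,
and `H^p` of the fibre over `y'` vanishes iff `H^p` of the fibre over `g y'` does.
-/

set_option autoImplicit false
set_option linter.style.haveILetI false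
set_option linter.unusedSectionVars false
set_option linter.unusedVariables false

universe u

open CategoryTheory CategoryTheory.Limits AlgebraicGeometry TopologicalSpace Opposite TensorProduct

namespace Groth.Agent.H96.BC

variable {X Y X' Y' : Scheme.{u}} {f : X ⟶ Y} {g : Y' ⟶ Y} {g' : X' ⟶ X} {f' : X' ⟶ Y'}

/-- the morphism between the fibres -/
noncomputable abbrev fiberPr (h : IsPullback g' f' f g) (y' : Y') :
    f'.fiber y' ⟶ f.fiber (g.base y') :=
  pullback.map _ _ _ _ g' (Spec.map (g.residueFieldMap y')) g h.w.symm (by simp)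

lemma fiberPr_fiberι (h : IsPullback g' f' f g) (y' : Y') :
    fiberPr h y' ≫ f.fiberι (g.base y') = f'.fiberι y' ≫ g' := by
  unfold fiberPr Scheme.Hom.fiberι
  exact pullback.lift_fst _ _ _

/-- the restriction to the fibre commutes with base change -/
noncomputable def fiberModIso (h : IsPullback g' f' f g) (F : X.Modules) (y' : Y') :
    (Scheme.Modules.pullback (fiberPr h y')).obj (CohIII.fiberMod f F (g.base y')) ≅
      CohIII.fiberMod f' ((Scheme.Modules.pullback g').obj F) y' :=
  (Scheme.Modules.pullbackComp (fiberPr h y') (f.fiberι (g.base y'))).app F ≪≫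
    (Scheme.Modules.pullbackCongr (fiberPr_fiberι h y')).app F ≪≫
    ((Scheme.Modules.pullbackComp (f'.fiberι y') g').app F).symm

section Main

variable (h : IsPullback g' f' f g) [QuasiCompact f] [IsSeparated f]
  (F : X.Modules) [F.IsQuasicoherent] (p : ℕ) (y' : Y')

include h in
/-- **flat base change between the fibres**:
`κ(y') ⊗_{κ(g y')} H^p(X_{g y'}, F) ≃ₗ[κ(y')] H^p(X'_{y'}, g'^* F)` -/
theorem nonempty_fiberH_baseChange :
    letI : Algebra (Y.residueField (g.base y')) (Y'.residueField y') :=
      (g.residueFieldMap y').hom.toAlgebra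
    Nonempty ((Y'.residueField y') ⊗[Y.residueField (g.base y')]
        (CohIII.fiberH f F (g.base y') p) ≃ₗ[Y'.residueField y']
      CohIII.fiberH f' ((Scheme.Modules.pullback g').obj F) y' p) := by
  letI : Algebra (Y.residueField (g.base y')) (Y'.residueField y') :=
    (g.residueFieldMap y').hom.toAlgebra
  letI ov' : (f'.fiber y').Over (Spec (CommRingCat.of (Y'.residueField y'))) :=
    CohIII.fiberOver f' y'
  letI ov : (f.fiber (g.base y')).Over (Spec (CommRingCat.of (Y.residueField (g.base y')))) :=
    CohIII.fiberOver f (g.base y')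
  have hpb : IsPullback (fiberPr h y') (f'.fiber y' ↘ Spec (CommRingCat.of (Y'.residueField y')))
      (f.fiber (g.base y') ↘ Spec (CommRingCat.of (Y.residueField (g.base y'))))
      (Spec.map (CommRingCat.ofHom (algebraMap (Y.residueField (g.base y'))
        (Y'.residueField y')))) :=
    isPullback_fiberToSpecResidueField_of_isPullback h y'
  haveI : IsSeparated (f.fiber (g.base y') ↘ Spec (CommRingCat.of (Y.residueField (g.base y')))) :=
    (inferInstance : IsSeparated (pullback.snd f (Y.fromSpecResidueField (g.base y'))))
  haveI : CompactSpace (f.fiber (g.base y')) :=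
    (inferInstance : CompactSpace ↑(pullback f (Y.fromSpecResidueField (g.base y'))))
  obtain ⟨e1⟩ := nonempty_flat_baseChange_of_sep
    (A := Y.residueField (g.base y')) (B := Y'.residueField y') (fiberPr h y')
    (CohIII.fiberMod f F (g.base y')) hpb p
  exact ⟨e1.trans (Groth.Agent.H71.CohBC.hhLinearEquivOfIso (Y'.residueField y') (f'.fiber y')
    (fiberModIso h F y') p)⟩

include h in
/-- **(FIB3) the fibre ranks are invariant under base change.** -/
theorem fiberRank_baseChange :
    CohIII.fiberRank f' ((Scheme.Modules.pullback g').obj F) p y' =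
      CohIII.fiberRank f F p (g.base y') := by
  letI : Algebra (Y.residueField (g.base y')) (Y'.residueField y') :=
    (g.residueFieldMap y').hom.toAlgebra
  obtain ⟨e⟩ := nonempty_fiberH_baseChange h F p y'
  unfold CohIII.fiberRank
  rw [← e.finrank_eq]
  exact Module.finrank_baseChange

include h in
/-- the cohomology of the fibre over `y'` vanishes iff that of the fibre over `g y'` does -/
theorem subsingleton_fiberH_baseChange_iff :
    Subsingleton (CohIII.fiberH f' ((Scheme.Modules.pullback g').obj F) y' p) ↔
      Subsingleton (CohIII.fiberH f F (g.base y') p) := by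
  letI : Algebra (Y.residueField (g.base y')) (Y'.residueField y') :=
    (g.residueFieldMap y').hom.toAlgebra
  obtain ⟨e⟩ := nonempty_fiberH_baseChange h F p y'
  rw [← e.toEquiv.subsingleton_congr]
  rw [← rank_zero_iff (R := Y'.residueField y'), Module.rank_baseChange,
    Cardinal.lift_eq_zero, rank_zero_iff]

end Main

section Congr

variable (f : X ⟶ Y) {F₁ F₂ : X.Modules} (e : F₁ ≅ F₂) (p : ℕ) (y : Y)

/-- the cohomology of the fibres of isomorphic modules -/
noncomputable def fiberHLinearEquivOfIso :
    CohIII.fiberH f F₁ y p ≃ₗ[Y.residueField y] CohIII.fiberH f F₂ y p :=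
  letI ov : (f.fiber y).Over (Spec (CommRingCat.of (Y.residueField y))) := CohIII.fiberOver f y
  Groth.Agent.H71.CohBC.hhLinearEquivOfIso (Y.residueField y) (f.fiber y)
    ((Scheme.Modules.pullback (f.fiberι y)).mapIso e) p

include e in
theorem fiberRank_congr_iso : CohIII.fiberRank f F₁ p y = CohIII.fiberRank f F₂ p y :=
  (fiberHLinearEquivOfIso f e p y).finrank_eq

include e in
theorem subsingleton_fiberH_congr_iso :
    Subsingleton (CohIII.fiberH f F₁ y p) ↔ Subsingleton (CohIII.fiberH f F₂ y p) :=
  (fiberHLinearEquivOfIso f e p y).toEquiv.subsingleton_congr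

end Congr

end Groth.Agent.H96.BC
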