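import Mathlib
import Groth.Prelude.Def_ega3
import Groth.Agent.H12.BC.Hyp
import Groth.Agent.H96.BaseChange.FibRank
import Groth.Agent.H96.BaseChange.FlatBC
import Groth.Agent.H96.BaseChange.CechNat
import Groth.Agent.H96.BaseChange.DRankNat

/-!
# (FIB2) The fibre ranks are the ranks of any complex computing `M ↦ H^p(X, F ⊗_A M)` (helper96)

* `fiberRank_eq_dRank_of_natIso` / `fiberRank_eq_dRank_of_computes` :
  `CohIII.fiberRank (X ↘ Spec A) F p y = CohIII.dRank L p y`;
* `nonempty_fiberH_addEquiv_T` : `H^p(X_y, F_y) ≃+ H^p(L ⊗_A κ(y))`.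
-/

set_option autoImplicit false
set_option linter.style.haveILetI false
set_option linter.unusedSectionVars false
set_option linter.unusedVariables false

universe u

open CategoryTheory CategoryTheory.Limits AlgebraicGeometry TopologicalSpace Opposite TensorProduct
open Groth.Agent.Lead.Cech

namespace Groth.Agent.H96.BC

variable (A : Type u) [CommRing A] {X : Scheme.{u}} [X.Over (Spec (CommRingCat.of A))]
  (F : X.Modules) [F.IsQuasicoherent]

section General

variable [IsSeparated (X ↘ Spec (CommRingCat.of A))] [CompactSpace X]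
  {κ : Type} {c : ComplexShape κ} (L : HomologicalComplex (ModuleCat.{u} A) c) (q : κ) (p : ℕ)

/-- **(FIB2), general form.** -/
theorem fiberRank_eq_dRank_of_natIso
    (η : CohIII.tensorAFunctor A F ⋙ CohIII.HAb X p ≅
      CohIII.TFun L q ⋙ forget₂ (ModuleCat.{u} A) AddCommGrpCat.{u})
    (y : Spec (CommRingCat.of A)) :
    CohIII.fiberRank (X ↘ Spec (CommRingCat.of A)) F p y = CohIII.dRank L q y := by
  obtain ⟨ι, hfin, U, hU, hA⟩ := exists_finite_affine_cover_of_sep (X ↘ Spec (CommRingCat.of A))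
  obtain ⟨θ⟩ := nonempty_TFun_cechA_natIso A U F hU hA p
  rw [fiberRank_eq_dRank_cechA A U F hU hA p y]
  exact dRank_eq_of_natIso (cechA A U F) L p q (θ ≪≫ η) y

set_option backward.isDefEq.respectTransparency.types false in
/-- the cohomology of the fibre is the homology of the base-changed Čech complex -/
theorem nonempty_fiberH_addEquiv_bcCx {ι : Type u} [Finite ι] (U : ι → X.Opens)
    (hU : iSup U = ⊤)
    (hA : ∀ (p : ℕ) (σ : Fin (p + 1) → ι), IsAffineOpen (cechOpen (X := X) U σ))
    (y : Spec (CommRingCat.of A)) :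
    Nonempty (CohIII.fiberH (X ↘ Spec (CommRingCat.of A)) F y p ≃+
      (CohIII.bcCx (algebraMap A y.asIdeal.ResidueField) (cechA A U F)).homology p) := by
  letI ov := fiberOverκ A (X := X) y
  have hpb := isPullback_fiberκ A (X := X) y
  obtain ⟨e⟩ := nonempty_bcCx_homology_linearEquiv (A := A) (B := y.asIdeal.ResidueField)
    ((X ↘ Spec (CommRingCat.of A)).fiberι y) U hpb.w F hpb hA hU p
  exact ⟨e.symm.toAddEquiv⟩

set_option backward.isDefEq.respectTransparency.types false in
/-- **the cohomology of the fibre is `H^q(L ⊗_A κ(y))`** -/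
theorem nonempty_fiberH_addEquiv_T
    (η : CohIII.tensorAFunctor A F ⋙ CohIII.HAb X p ≅
      CohIII.TFun L q ⋙ forget₂ (ModuleCat.{u} A) AddCommGrpCat.{u})
    (y : Spec (CommRingCat.of A)) :
    Nonempty (CohIII.fiberH (X ↘ Spec (CommRingCat.of A)) F y p ≃+
      CohIII.T L q (ModuleCat.of A y.asIdeal.ResidueField)) := by
  obtain ⟨ι, hfin, U, hU, hA⟩ := exists_finite_affine_cover_of_sep (X ↘ Spec (CommRingCat.of A))
  obtain ⟨θ⟩ := nonempty_TFun_cechA_natIso A U F hU hA p
  obtain ⟨e1⟩ := nonempty_fiberH_addEquiv_bcCx A F p U hU hA y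
  obtain ⟨e2⟩ := nonempty_bcCx_homology_linearEquiv_of_natIso (cechA A U F) L p q (θ ≪≫ η)
    y.asIdeal.ResidueField
  exact ⟨(e1.trans e2.toAddEquiv).trans (TEquivBcHomology y.asIdeal.ResidueField L q).symm⟩

set_option backward.isDefEq.respectTransparency.types false in
/-- vanishing of the cohomology of the fibre in terms of `L` -/
theorem subsingleton_fiberH_iff_isZero_T
    (η : CohIII.tensorAFunctor A F ⋙ CohIII.HAb X p ≅
      CohIII.TFun L q ⋙ forget₂ (ModuleCat.{u} A) AddCommGrpCat.{u})
    (y : Spec (CommRingCat.of A)) :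
    Subsingleton (CohIII.fiberH (X ↘ Spec (CommRingCat.of A)) F y p) ↔
      IsZero (CohIII.T L q (ModuleCat.of A y.asIdeal.ResidueField)) := by
  obtain ⟨e⟩ := nonempty_fiberH_addEquiv_T A F L q p η y
  rw [ModuleCat.isZero_iff_subsingleton]
  exact ⟨fun h => e.symm.toEquiv.subsingleton, fun h => e.toEquiv.subsingleton⟩

end General

section Computes

/-- **(FIB2)** in the form requested by helper12. -/
theorem fiberRank_eq_dRank_of_computes [IsNoetherianRing A]
    [IsProper (X ↘ Spec (CommRingCat.of A))] (hF : Coh.IsCoh F)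
    (L : CochainComplex (ModuleCat.{u} A) ℤ) (hL : Groth.Agent.H12.BC.Computes A F L) (p : ℕ)
    (y : Spec (CommRingCat.of A)) :
    CohIII.fiberRank (X ↘ Spec (CommRingCat.of A)) F p y = CohIII.dRank L (p : ℤ) y := by
  haveI : CompactSpace X :=
    AlgebraicGeometry.QuasiCompact.compactSpace_of_compactSpace (X ↘ Spec (CommRingCat.of A))
  obtain ⟨η⟩ := hL.2.2.2 p
  exact fiberRank_eq_dRank_of_natIso A F L (p : ℤ) p η y

set_option backward.isDefEq.respectTransparency.types false in
theorem subsingleton_fiberH_iff_isZero_T_of_computes [IsNoetherianRing A]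
    [IsProper (X ↘ Spec (CommRingCat.of A))] (hF : Coh.IsCoh F)
    (L : CochainComplex (ModuleCat.{u} A) ℤ) (hL : Groth.Agent.H12.BC.Computes A F L) (p : ℕ)
    (y : Spec (CommRingCat.of A)) :
    Subsingleton (CohIII.fiberH (X ↘ Spec (CommRingCat.of A)) F y p) ↔
      IsZero (CohIII.T L (p : ℤ) (ModuleCat.of A y.asIdeal.ResidueField)) := by
  haveI : CompactSpace X :=
    AlgebraicGeometry.QuasiCompact.compactSpace_of_compactSpace (X ↘ Spec (CommRingCat.of A))
  obtain ⟨η⟩ := hL.2.2.2 p
  exact subsingleton_fiberH_iff_isZero_T A F L (p : ℤ) p η y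

end Computes

end Groth.Agent.H96.BC
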