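import Mathlib
import Groth.Agent.H9.RpushCoh.AffineBase
import Groth.Agent.H9.RpushCoh.AffineFinite

/-!
# helper96: global sections of `R^n f_* M` over an affine base, as a *bijective* semilinear map

`H9.RpushCoh.exists_surjective_semilinear` with the injectivity added
(`Lead.Rpush.cmap_eq_zero`).
-/

set_option autoImplicit false
set_option linter.style.haveILetI false
set_option linter.unusedSectionVars false
set_option linter.unusedVariables false
universe u
open CategoryTheory Limits TopologicalSpace Opposite AlgebraicGeometry Abelian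

namespace Groth.Agent.H96.BC

open Groth.Agent.H30.RpushQC Groth.Agent.Lead.Rpush Groth.Agent.Lead.Coh Groth.Agent.H18

variable {X S : Scheme.{u}} (f : X ⟶ S) [HasInjectiveResolutions X.Modules] (M : X.Modules) (n : ℕ)
  [IsAffine S] [QuasiCompact f] [QuasiSeparated f] [M.IsQuasicoherent]

/-- For `f : X ⟶ S` quasi-compact quasi-separated with affine target and `M` quasi-coherent there is
a bijective additive map `H^n(X, M) → Γ(S, R^n f_* M)`, semilinear with respect to `f^♯` on global
functions. -/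
theorem exists_bijective_semilinear :
    ∃ Ψ : Coh.HH X M n →+ Γ((Coh.Rpush f n).obj M, ⊤), Function.Bijective Ψ ∧
      ∀ (r : Γ(S, ⊤)) (x : Coh.HH X M n), Ψ ((f.appTop r : Γ(X, ⊤)) • x) = r • Ψ x := by
  classical
  have hX1 : CompactSpace X := QuasiCompact.compactSpace_of_compactSpace f
  have hX2 : QuasiSeparatedSpace X := quasiSeparatedSpace_of_quasiSeparated f
  let I := injectiveResolution (Coh.toAb M)
  have htop : (⊤ : S.Opens) ∈ basicOpens S := ⟨1, S.basicOpen_of_isUnit isUnit_one⟩
  obtain ⟨e⟩ := nonempty_linearEquiv_HH_EM M n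
  let θe : Γ((Coh.Rpush f n).obj M, ⊤) ≃+ (HK f M n I).obj.obj (op ⊤) :=
    AddEquiv.ofBijective (θ f M n I ⊤) ⟨θ_injective f M n I ⊤, θ_surjective f M n I ⊤⟩
  let c : EM M ⊤ n →+ (HK f M n I).obj.obj (op ⊤) := cmapHom f.base I ⊤ n
  refine ⟨θe.symm.toAddMonoidHom.comp (c.comp e.toLinearMap.toAddMonoidHom), ⟨?_, ?_⟩, ?_⟩
  · rw [injective_iff_map_eq_zero]
    intro x hx
    have h1 : c (e x) = 0 := by
      have : θe.symm (c (e x)) = 0 := hx
      simpa using this
    have h2 : e x = 0 := cmap_eq_zero f M I ⊤ htop n (e x) h1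
    simpa using h2
  · intro y
    obtain ⟨ξ, hξ⟩ : ∃ ξ : EM M ⊤ n, c ξ = θ f M n I ⊤ y :=
      exists_cmap_eq_of_mem_basicOpens f M I ⊤ htop n (θ f M n I ⊤ y)
    refine ⟨e.symm ξ, ?_⟩
    change θe.symm (c (e (e.symm ξ))) = y
    rw [e.apply_symm_apply]
    apply θe.injective
    rw [θe.apply_symm_apply]
    exact hξ
  · intro r x
    change θe.symm (c (e ((f.appTop r : Γ(X, ⊤)) • x))) = r • θe.symm (c (e x))
    apply θe.injective
    rw [θe.apply_symm_apply, map_smul]
    have hr : S.presheaf.map (homOfLE (le_top : (⊤ : S.Opens) ≤ ⊤)).op r = r := by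
      have : (homOfLE (le_top : (⊤ : S.Opens) ≤ ⊤)).op = 𝟙 _ := rfl
      rw [this, S.presheaf.map_id]
      rfl
    have h1 := θ_smul f M n I r ⊤ (θe.symm (c (e x)))
    rw [hr] at h1
    change _ = θ f M n I ⊤ (r • θe.symm (c (e x)))
    rw [h1]
    have h2 : θ f M n I ⊤ (θe.symm (c (e x))) = c (e x) := θe.apply_symm_apply _
    rw [h2]
    have h3 := cmap_iter f M n I r ⊤ 1 (e x)
    exact h3

end Groth.Agent.H96.BC
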