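import Mathlib
import Groth.Agent.H96.BaseChange.StalkLocA
import Groth.Agent.H30.RpushQC.Main
import Groth.Agent.H8.QCohStalk
import Groth.Agent.H71.CohBC.Final
import Groth.Agent.H71.CohBC.HHIso

/-!
# helper96: (LOC) the stalk of `R^p f_* F` at `y` is `H^p(X ×_Y Spec O_{Y,y}, F)`

`nonempty_stalk_Rpush_linearEquiv`: for `f : X ⟶ Y` quasi-compact quasi-separated, `F` quasi-coherent,
`y : Y` and a cartesian square `X₁ = X ×_Y Spec O_{Y,y}` (first projection `g`), the stalk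
`(R^p f_* F)_y` is `O_{Y,y}`-linearly isomorphic to `H^p(X₁, g^* F)`.

Ingredients: quasi-coherence of `R^p f_* F` (helper30), stalks of quasi-coherent modules are
localizations of sections over affine opens (helper8), sections of `R^p f_* F` over an affine open
`V` are `H^p(f⁻¹V, F)` (helper9 / lead / helper30 + injectivity), flat base change (helper71).
-/

set_option autoImplicit false
set_option linter.style.haveILetI false
set_option linter.unusedSectionVars false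
set_option linter.unusedVariables false
universe u
open CategoryTheory Limits TopologicalSpace Opposite AlgebraicGeometry Abelian TensorProduct

namespace Groth.Agent.H96.BC

open Groth.Agent.H30.RpushQC

section Sections

variable {X Y : Scheme.{u}} (f : X ⟶ Y) [QuasiCompact f] [QuasiSeparated f]
  (F : X.Modules) [F.IsQuasicoherent] (p : ℕ) (V : Y.Opens)

/-- structure morphism of `f⁻¹V` over `Spec Γ(Y, V)` -/
noncomputable abbrev strV : ((f ⁻¹ᵁ V : X.Opens) : Scheme.{u}) ⟶ Spec (CommRingCat.of Γ(Y, V)) :=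
  (f ∣_ V) ≫ V.toSpecΓ

theorem toGlobal_strV (r : Γ(Y, V)) :
    Coh.toGlobal (strV f V) r = (f ∣_ V).appTop (V.topIso.inv r) := by
  unfold Coh.toGlobal strV
  have h : ((f ∣_ V) ≫ V.toSpecΓ).appTop = V.toSpecΓ.appTop ≫ (f ∣_ V).appTop :=
    Scheme.Hom.comp_appTop _ _
  rw [h, Scheme.Opens.toSpecΓ_appTop]
  change ((f ∣_ V).appTop) (V.topIso.inv ((Scheme.ΓSpecIso Γ(Y, V)).hom
    ((Scheme.ΓSpecIso (CommRingCat.of Γ(Y, V))).inv r))) = _
  congr 2
  exact congr($((Scheme.ΓSpecIso Γ(Y, V)).inv_hom_id) r)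

/-- `f⁻¹V` as a scheme over `Spec Γ(Y, V)` -/
@[reducible] noncomputable def overV :
    ((f ⁻¹ᵁ V : X.Opens) : Scheme.{u}).Over (Spec (CommRingCat.of Γ(Y, V))) := ⟨strV f V⟩

variable {V}

/-- **Sections of `R^p f_* F` over an affine open `V`** are `H^p(f⁻¹V, F)`, linearly over `Γ(Y, V)`. -/
theorem nonempty_sections_Rpush_linearEquiv [HasInjectiveResolutions X.Modules]
    (hV : IsAffineOpen V) :
    letI := overV f V
    Nonempty (Coh.HH ((f ⁻¹ᵁ V : X.Opens) : Scheme.{u}) (F.restrict (f ⁻¹ᵁ V).ι) p ≃ₗ[Γ(Y, V)]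
      Γ((Coh.Rpush f p).obj F, V)) := by
  letI := overV f V
  haveI : IsAffine (V : Scheme.{u}) := hV
  let N := (Coh.Rpush f p).obj F
  let M' := (Scheme.Modules.restrictFunctor (f ⁻¹ᵁ V).ι).obj F
  let N' := (Coh.Rpush (f ∣_ V) p).obj M'
  let e : N.restrict V.ι ≅ N' := (rpushRestrictIso f V p).app F
  obtain ⟨Ψ, hΨ, hlin⟩ := exists_bijective_semilinear (f ∣_ V) M' p
  have hVeq : V = V.ι ''ᵁ ⊤ := by simp
  let ρ : Γ(N.restrict V.ι, ⊤) →+ Γ(N, V) := (N.presheaf.map (eqToHom hVeq).op).hom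
  have hρ : Function.Bijective ρ :=
    ConcreteCategory.bijective_of_isIso (N.presheaf.map (eqToHom hVeq).op)
  let ε : Γ(N', ⊤) →+ Γ(N.restrict V.ι, ⊤) := (e.inv.app ⊤).hom
  have hε : Function.Bijective ε := ConcreteCategory.bijective_of_isIso (e.inv.app ⊤)
  let Φ : Coh.HH ((f ⁻¹ᵁ V : X.Opens) : Scheme.{u}) (F.restrict (f ⁻¹ᵁ V).ι) p →+ Γ(N, V) :=
    ρ.comp (ε.comp Ψ)
  have hΦ : Function.Bijective Φ := hρ.comp (hε.comp hΨ)
  refine ⟨LinearEquiv.ofBijective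
    { toFun := Φ
      map_add' := map_add Φ
      map_smul' := ?_ } hΦ⟩
  intro r x
  have h1 : r • x = ((f ∣_ V).appTop (V.topIso.inv r) : Γ(((f ⁻¹ᵁ V : X.Opens) : Scheme.{u}), ⊤)) • x := by
    change Coh.toGlobal (strV f V) r • x = _
    rw [toGlobal_strV]
    rfl
  change ρ (ε (Ψ (r • x))) = r • ρ (ε (Ψ x))
  rw [h1, hlin]
  have h2 : ε ((V.topIso.inv r) • Ψ x) = (V.topIso.inv r : Γ((V : Scheme.{u}), ⊤)) • ε (Ψ x) :=
    Scheme.Modules.Hom.app_smul e.inv (U := ⊤) (V.topIso.inv r) (Ψ x)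
  rw [h2]
  have h4 : ((V.topIso.inv r : Γ((V : Scheme.{u}), ⊤)) • ε (Ψ x) : Γ(N.restrict V.ι, ⊤)) =
      (@HSMul.hSMul Γ(Y, V.ι ''ᵁ ⊤) Γ(N, V.ι ''ᵁ ⊤) Γ(N, V.ι ''ᵁ ⊤) _
        ((V.ι.appIso ⊤).inv (V.topIso.inv r)) (ε (Ψ x))) := rfl
  rw [h4]
  have h3 := Scheme.Modules.map_smul N (eqToHom hVeq) ((V.ι.appIso ⊤).inv (V.topIso.inv r)) (ε (Ψ x))
  refine h3.trans ?_
  congr 1
  rw [Scheme.Opens.ι_appIso]
  change (Y.presheaf.map (eqToHom hVeq).op).hom ((Y.presheaf.map (eqToIso V.ι_image_top.symm).inv.op).hom r) = r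
  rw [← CommRingCat.comp_apply, ← Functor.map_comp]
  have : (eqToIso V.ι_image_top.symm).inv.op ≫ (eqToHom hVeq).op = 𝟙 _ := rfl
  rw [this, CategoryTheory.Functor.map_id]
  rfl


end Sections

section StalkTensor

variable {Y : Scheme.{u}} (N : Y.Modules) [N.IsQuasicoherent] {V : Y.Opens} (hV : IsAffineOpen V)
  {y : Y} (hy : y ∈ V)

include hV in
/-- the stalk of a quasi-coherent module at a point of an affine open `V` is the base change to the
local ring of the sections over `V` -/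
theorem nonempty_stalk_linearEquiv_tensor :
    letI := Y.presheaf.algebra_section_stalk ⟨y, hy⟩
    Nonempty (N.presheaf.stalk y ≃ₗ[Y.presheaf.stalk y]
      (Y.presheaf.stalk y) ⊗[Γ(Y, V)] Γ(N, V)) := by
  letI := Y.presheaf.algebra_section_stalk ⟨y, hy⟩
  letI := Groth.Agent.H8.stalkModule N hy
  haveI : IsScalarTower Γ(Y, V) (Y.presheaf.stalk y) (N.presheaf.stalk y) :=
    ⟨fun a b m => by
      change (Y.presheaf.germ V y hy a * b) • m = (Y.presheaf.germ V y hy a) • (b • m)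
      rw [mul_smul]⟩
  haveI := hV.isLocalization_stalk ⟨y, hy⟩
  haveI := Groth.Agent.H8.isLocalizedModule_germₗ N hV hy
  have hbc : IsBaseChange (Y.presheaf.stalk y) (Groth.Agent.H8.germₗ N hy) :=
    IsLocalizedModule.isBaseChange (hV.primeIdealOf ⟨y, hy⟩).asIdeal.primeCompl
      (Y.presheaf.stalk y) (Groth.Agent.H8.germₗ N hy)
  exact ⟨hbc.equiv.symm⟩

end StalkTensor

section Square

variable {X Y : Scheme.{u}} (f : X ⟶ Y) {V : Y.Opens} (hV : IsAffineOpen V) {y : Y} (hy : y ∈ V)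
  {X₁ : Scheme.{u}} (g : X₁ ⟶ X) (q : X₁ ⟶ Spec (Y.presheaf.stalk y))
  (hsq : IsPullback g q f (Y.fromSpecStalk y))

/-- `Spec O_{Y,y} ⟶ V` -/
noncomputable abbrev specStalkToV : Spec (Y.presheaf.stalk y) ⟶ (V : Scheme.{u}) :=
  Spec.map (Y.presheaf.germ V y hy) ≫ hV.isoSpec.inv

theorem specStalkToV_ι : specStalkToV hV hy ≫ V.ι = Y.fromSpecStalk y := by
  rw [← hV.fromSpecStalk_eq_fromSpecStalk hy]
  unfold specStalkToV IsAffineOpen.fromSpecStalk
  rw [Category.assoc, hV.isoSpec_inv_ι]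

include hV hsq in
theorem exists_lift_isPullback :
    ∃ g₁ : X₁ ⟶ ((f ⁻¹ᵁ V : X.Opens) : Scheme.{u}), g₁ ≫ (f ⁻¹ᵁ V).ι = g ∧
      IsPullback g₁ q ((f ∣_ V) ≫ V.toSpecΓ) (Spec.map (Y.presheaf.germ V y hy)) := by
  have hR := (isPullback_morphismRestrict f V).flip
  have hw : g ≫ f = (q ≫ specStalkToV hV hy) ≫ V.ι := by
    rw [Category.assoc, specStalkToV_ι, hsq.w]
  refine ⟨hR.lift g (q ≫ specStalkToV hV hy) hw, hR.lift_fst _ _ hw, ?_⟩
  have h1 : IsPullback (hR.lift g (q ≫ specStalkToV hV hy) hw) q (f ∣_ V) (specStalkToV hV hy) := by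
    refine IsPullback.of_right ?_ (hR.lift_snd _ _ hw) hR
    rw [hR.lift_fst, specStalkToV_ι]
    exact hsq
  have h2 : IsPullback (specStalkToV hV hy) (𝟙 _) V.toSpecΓ (Spec.map (Y.presheaf.germ V y hy)) := by
    haveI : IsIso V.toSpecΓ := by
      rw [← hV.isoSpec_hom]; infer_instance
    refine IsPullback.of_vert_isIso ⟨?_⟩
    unfold specStalkToV
    rw [Category.assoc, hV.isoSpec_inv_toSpecΓ, Category.comp_id, Category.id_comp]
  have h3 := h1.paste_vert h2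
  rwa [Category.comp_id] at h3

end Square

section Main

variable {X Y : Scheme.{u}} (f : X ⟶ Y) [QuasiCompact f] [QuasiSeparated f]
  [HasInjectiveResolutions X.Modules] (F : X.Modules) [F.IsQuasicoherent] (y : Y) (p : ℕ)
  (X₁ : Scheme.{u}) [X₁.Over (Spec (CommRingCat.of (Y.presheaf.stalk y)))] (g : X₁ ⟶ X)

/-- **(LOC)** The stalk of `R^p f_* F` at `y` is the cohomology of the base change of `F` to
`X ×_Y Spec O_{Y,y}`, linearly over the local ring `O_{Y,y}`. -/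
theorem nonempty_stalk_Rpush_linearEquiv
    (hsq : IsPullback g (X₁ ↘ Spec (CommRingCat.of (Y.presheaf.stalk y))) f (Y.fromSpecStalk y)) :
    Nonempty (((Coh.Rpush f p).obj F).presheaf.stalk y ≃ₗ[Y.presheaf.stalk y]
      Coh.HH X₁ ((Scheme.Modules.pullback g).obj F) p) := by
  obtain ⟨V, hV, hy, -⟩ := exists_isAffineOpen_mem_and_subset (x := y) (U := ⊤) trivial
  haveI : IsAffine (V : Scheme.{u}) := hV
  letI alg := Y.presheaf.algebra_section_stalk ⟨y, hy⟩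
  letI ov := overV f V
  haveI hN : ((Coh.Rpush f p).obj F).IsQuasicoherent := isQuasicoherent_rpush f F p
  obtain ⟨e₁⟩ := nonempty_stalk_linearEquiv_tensor ((Coh.Rpush f p).obj F) hV hy
  obtain ⟨e₂⟩ := nonempty_sections_Rpush_linearEquiv f F p hV
  obtain ⟨g₁, hg₁, hpb⟩ := exists_lift_isPullback f hV hy g
    (X₁ ↘ Spec (CommRingCat.of (Y.presheaf.stalk y))) hsq
  haveI := hV.isLocalization_stalk ⟨y, hy⟩
  haveI : Module.Flat Γ(Y, V) (Y.presheaf.stalk y) :=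
    IsLocalization.flat (Y.presheaf.stalk y) (hV.primeIdealOf ⟨y, hy⟩).asIdeal.primeCompl
  haveI : CompactSpace ((f ⁻¹ᵁ V : X.Opens) : Scheme.{u}) :=
    QuasiCompact.compactSpace_of_compactSpace (f ∣_ V)
  haveI : QuasiSeparatedSpace ((f ⁻¹ᵁ V : X.Opens) : Scheme.{u}) :=
    quasiSeparatedSpace_of_quasiSeparated (f ∣_ V)
  obtain ⟨e₃⟩ := Groth.Agent.H71.CohBC.flat_base_change_affine_base Γ(Y, V) (Y.presheaf.stalk y)
    ((f ⁻¹ᵁ V : X.Opens) : Scheme.{u}) X₁ g₁ hpb (F.restrict (f ⁻¹ᵁ V).ι) p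
  let i : (Scheme.Modules.pullback g₁).obj (F.restrict (f ⁻¹ᵁ V).ι) ≅
      (Scheme.Modules.pullback g).obj F :=
    (Scheme.Modules.pullback g₁).mapIso ((Scheme.Modules.restrictFunctorIsoPullback (f ⁻¹ᵁ V).ι).app F) ≪≫
      ((Scheme.Modules.pullbackComp g₁ (f ⁻¹ᵁ V).ι).app F) ≪≫
      (Scheme.Modules.pullbackCongr hg₁).app F
  let e₄ := Groth.Agent.H71.CohBC.hhLinearEquivOfIso (Y.presheaf.stalk y) X₁ i p
  exact ⟨e₁ ≪≫ₗ (LinearEquiv.baseChange Γ(Y, V) (Y.presheaf.stalk y) _ _ e₂.symm) ≪≫ₗ e₃ ≪≫ₗ e₄⟩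

end Main

end Groth.Agent.H96.BC
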